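import Cfsg.Agent.U43Type.Cert.Kill02.CheckLog
import Cfsg.Agent.CosetCert.MemberGroup

/-! Generated: the membership. -/

set_option maxRecDepth 100000

namespace Cfsg.Agent.U43Type.Cert.Kill02

open Cfsg.Agent.CosetCert

theorem mem_valid : data.MemValid where
  log := log_ok
  iv_iv := by decide +kernel
  iv_big := fun x hx => by
    change 10 ≤ x at hx
    show (if x < 5 then x + 5 else if x < 10 then x - 5 else x) = x
    split_ifs <;> omega
  pw := by decide +kernel
  letters := by decide +kernel
  K_small := by decide +kernel
  nR_le := by decide +kernel

theorem spells : Data.Spells data (wordRels relWords) (subLetters.map FreeGroup.of) enc dec relWords := by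
  apply spells_words_extra data
  · show ∀ b : Fin 5, _
    decide +kernel
  · decide +kernel
  · intro x hx
    left
    revert x
    decide +kernel
  · decide +kernel
  · decide +kernel

theorem mem : PresentedGroup.mk (wordRels relWords) (FreeGroup.mk [((4 : Fin 5), true)]) ∈
    Data.sub (wordRels relWords) (subLetters.map FreeGroup.of) :=
  Data.mem_sub_of_path mem_valid spells [((4 : Fin 5), true)] 1 0x1210 (by decide +kernel)

end Cfsg.Agent.U43Type.Cert.Kill02
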